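import Cfsg.Agent.S0112
import Cfsg.Agent.S0113
import Cfsg.Agent.GH.Rank
import Cfsg.Agent.TwoFusion.SectionalRank

/-!
# Sectional rank of 2-groups with a self-centralizing subgroup of order 4 (helper333)
-/

set_option autoImplicit false

namespace Cfsg.Agent.H333.SLF.Rank

open Cfsg Subgroup

/-- a 2-group of order at most 4 -/
theorem rank_of_card_le {P : Type*} [Group P] [Finite P] (h : Nat.card P ≤ 4) : SectionalPRankLE 2 2 P := by
  rw [TwoFusion.SectionalRank.sectionalPRankLE_iff]
  intro X Y _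
  have h1 : Nat.card X ≤ 4 := (Nat.card_le_card_of_injective _ X.subtype_injective).trans h
  have h2 : 0 < Nat.card Y := Nat.card_pos
  nlinarith

theorem rank_of_selfcent {P : Type*} [Group P] [Finite P] (hP : IsPGroup 2 P) (A : Subgroup P)
    (hA : Nat.card A = 4) (hC : centralizer (A : Set P) = A) : SectionalPRankLE 2 2 P := by
  have : Fact (Nat.Prime 2) := ⟨Nat.prime_two⟩
  obtain ⟨n, hn⟩ := IsPGroup.iff_card.1 hP
  have h1 := Cfsg.Agent.S0112.result (p := 2) n hn A (by rw [hA]; norm_num) hC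
  rcases Nat.lt_or_ge n 3 with h3 | h3
  · apply rank_of_card_le
    rw [hn]
    calc 2 ^ n ≤ 2 ^ 2 := Nat.pow_le_pow_right (by norm_num) (by omega)
      _ = 4 := by norm_num
  · obtain ⟨C, hc, hi⟩ := Cfsg.Agent.S0113.result n h3 hn h1
    exact TwoFusion.SectionalRank.sectionalPRankLE_of_cyclic (p := 2) (k := 1) (by norm_num) C (by rw [hi]; norm_num)


/-- the four-group `{1, a, b, ab}` -/
def four {R : Type*} [Group R] (a b : R) (ha : a * a = 1) (hb : b * b = 1) (hab : a * b = b * a) : Subgroup R where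
  carrier := {1, a, b, a * b}
  one_mem' := by simp
  mul_mem' := by
    intro x y hx hy
    simp only [Set.mem_insert_iff, Set.mem_singleton_iff] at hx hy ⊢
    have e1 : a * (a * b) = b := by rw [← mul_assoc, ha, one_mul]
    have e2 : b * (a * b) = a := by rw [hab, ← mul_assoc, hb, one_mul]
    have e3 : a * b * a = b := by rw [hab, mul_assoc, ha, mul_one]
    have e4 : a * b * b = a := by rw [mul_assoc, hb, mul_one]
    have e5 : a * b * (a * b) = 1 := by rw [mul_assoc, e2, ha]
    rcases hx with rfl | rfl | rfl | rfl <;> rcases hy with rfl | rfl | rfl | rfl <;>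
      simp [ha, hb, e1, e2, e3, e4, e5, hab.symm]
  inv_mem' := by
    intro x hx
    simp only [Set.mem_insert_iff, Set.mem_singleton_iff] at hx ⊢
    have ha' : a⁻¹ = a := inv_eq_of_mul_eq_one_left ha
    have hb' : b⁻¹ = b := inv_eq_of_mul_eq_one_left hb
    rcases hx with rfl | rfl | rfl | rfl
    · simp
    · simp [ha']
    · simp [hb']
    · simp [ha', hb', hab.symm]

theorem mem_four {R : Type*} [Group R] {a b : R} {ha : a * a = 1} {hb : b * b = 1} {hab : a * b = b * a} {x : R} :
    x ∈ four a b ha hb hab ↔ x = 1 ∨ x = a ∨ x = b ∨ x = a * b := Iff.rfl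

theorem card_four {R : Type*} [Group R] {a b : R} (ha : a * a = 1) (hb : b * b = 1) (hab : a * b = b * a)
    (ha1 : a ≠ 1) (hb1 : b ≠ 1) (hne : a ≠ b) : Nat.card (four a b ha hb hab) = 4 := by
  have h1 : Nat.card (four a b ha hb hab) = Set.ncard ({1, a, b, a * b} : Set R) := rfl
  rw [h1]
  have h2 : a * b ≠ 1 := by
    intro h
    apply hne
    have := inv_eq_of_mul_eq_one_left hb
    rw [← this]
    exact eq_inv_of_mul_eq_one_left h
  rw [Set.ncard_insert_of_notMem, Set.ncard_insert_of_notMem, Set.ncard_pair]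
  · intro h
    exact ha1 (by simpa using h.symm)
  · simp only [Set.mem_insert_iff, Set.mem_singleton_iff, not_or]
    exact ⟨hne, fun h => hb1 (by simpa using h.symm)⟩
  · simp only [Set.mem_insert_iff, Set.mem_singleton_iff, not_or]
    exact ⟨ha1.symm, hb1.symm, h2.symm⟩

/-- a Sylow 2-subgroup with a self-centralizing four-group -/
theorem rank_of_four {R : Type*} [Group R] [Finite R] (P : Sylow 2 R) {a b : R} (ha : a * a = 1) (hb : b * b = 1)
    (hab : a * b = b * a) (ha1 : a ≠ 1) (hb1 : b ≠ 1) (hne : a ≠ b) (haP : a ∈ P) (hbP : b ∈ P)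
    (hc : ∀ t ∈ P, t * a = a * t → t * b = b * t → t = 1 ∨ t = a ∨ t = b ∨ t = a * b) :
    SectionalPRankLE 2 2 R := by
  have : Fact (Nat.Prime 2) := ⟨Nat.prime_two⟩
  apply TwoFusion.SectionalRank.sectionalPRankLE_of_sylow P
  let a' : (P : Subgroup R) := ⟨a, haP⟩
  let b' : (P : Subgroup R) := ⟨b, hbP⟩
  have ha' : a' * a' = 1 := Subtype.ext ha
  have hb' : b' * b' = 1 := Subtype.ext hb
  have hab' : a' * b' = b' * a' := Subtype.ext hab
  have h1 : a' ≠ 1 := fun h => ha1 (congrArg Subtype.val h)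
  have h2 : b' ≠ 1 := fun h => hb1 (congrArg Subtype.val h)
  have h3 : a' ≠ b' := fun h => hne (congrArg Subtype.val h)
  refine rank_of_selfcent P.isPGroup' (four a' b' ha' hb' hab') (card_four ha' hb' hab' h1 h2 h3) ?_
  ext t
  rw [mem_centralizer_iff]
  constructor
  · intro h
    have e1 := h a' (mem_four.2 (Or.inr (Or.inl rfl)))
    have e2 := h b' (mem_four.2 (Or.inr (Or.inr (Or.inl rfl))))
    rcases hc t t.2 (congrArg Subtype.val e1).symm (congrArg Subtype.val e2).symm with h4 | h4 | h4 | h4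
    · exact mem_four.2 (Or.inl (Subtype.ext h4))
    · exact mem_four.2 (Or.inr (Or.inl (Subtype.ext h4)))
    · exact mem_four.2 (Or.inr (Or.inr (Or.inl (Subtype.ext h4))))
    · exact mem_four.2 (Or.inr (Or.inr (Or.inr (Subtype.ext h4))))
  · intro ht x hx
    have ca : t * a' = a' * t := by
      rcases mem_four.1 ht with rfl | rfl | rfl | rfl
      · simp
      · rfl
      · exact hab'.symm
      · rw [hab', mul_assoc, ← mul_assoc a' b', hab', mul_assoc, ha']
    have cb : t * b' = b' * t := by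
      rcases mem_four.1 ht with rfl | rfl | rfl | rfl
      · simp
      · exact hab'
      · rfl
      · rw [mul_assoc, hb', mul_one, hab', ← mul_assoc, hb', one_mul]
    rcases mem_four.1 hx with rfl | rfl | rfl | rfl
    · simp
    · exact ca.symm
    · exact cb.symm
    · rw [mul_assoc, ← cb, ← mul_assoc, ← ca, mul_assoc]

/-- a Sylow 2-subgroup with a self-centralizing element of order four -/
theorem rank_of_cyc {R : Type*} [Group R] [Finite R] (P : Sylow 2 R) {y : R} (hy : orderOf y = 4) (hyP : y ∈ P)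
    (hc : ∀ t ∈ P, t * y = y * t → t ∈ zpowers y) : SectionalPRankLE 2 2 R := by
  have : Fact (Nat.Prime 2) := ⟨Nat.prime_two⟩
  apply TwoFusion.SectionalRank.sectionalPRankLE_of_sylow P
  let y' : (P : Subgroup R) := ⟨y, hyP⟩
  have ho : orderOf y' = 4 := by rw [← hy]; exact Subgroup.orderOf_mk y hyP
  refine rank_of_selfcent P.isPGroup' (zpowers y') (by rw [Nat.card_zpowers, ho]) ?_
  ext t
  rw [mem_centralizer_iff]
  constructor
  · intro h
    have e1 := h y' (mem_zpowers y')
    obtain ⟨k, hk⟩ := hc t t.2 (congrArg Subtype.val e1).symm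
    exact ⟨k, Subtype.ext hk⟩
  · rintro ⟨k, rfl⟩ x ⟨l, rfl⟩
    exact (Commute.zpow_zpow_self y' l k)

end Cfsg.Agent.H333.SLF.Rank
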