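import Mathlib

/-!
# 2×2 matrices over a field: centralizers of non-scalar matrices (helper333, piece SLFive of S3145)
-/

set_option autoImplicit false

namespace Cfsg.Agent.H333.SLF

open Matrix

section field

variable {F : Type*} [Field F]

/-- scalar matrices -/
def Sc (M : Matrix (Fin 2) (Fin 2) F) : Prop := ∃ c : F, M = c • (1 : Matrix (Fin 2) (Fin 2) F)

theorem sc_iff {M : Matrix (Fin 2) (Fin 2) F} : Sc M ↔ M 0 1 = 0 ∧ M 1 0 = 0 ∧ M 0 0 = M 1 1 := by
  constructor
  · rintro ⟨c, rfl⟩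
    simp
  · rintro ⟨h1, h2, h3⟩
    refine ⟨M 0 0, ?_⟩
    ext i j
    fin_cases i <;> fin_cases j <;> simp [h1, h2, h3]

/-- the commutant of a non-scalar matrix -/
theorem exists_lin {A M : Matrix (Fin 2) (Fin 2) F} (hM : ¬ Sc M) (h : A * M = M * A) :
    ∃ a b : F, A = a • (1 : Matrix (Fin 2) (Fin 2) F) + b • M := by
  have e00 := congrFun (congrFun h 0) 0
  have e01 := congrFun (congrFun h 0) 1
  have e10 := congrFun (congrFun h 1) 0
  simp only [Matrix.mul_apply, Fin.sum_univ_two] at e00 e01 e10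
  rw [sc_iff] at hM
  by_cases h1 : M 0 1 = 0
  · by_cases h2 : M 1 0 = 0
    · have h3 : M 0 0 - M 1 1 ≠ 0 := fun h3 => hM ⟨h1, h2, sub_eq_zero.1 h3⟩
      have a01 : A 0 1 = 0 := by
        have : (M 0 0 - M 1 1) * A 0 1 = 0 := by
          rw [h1] at e01
          linear_combination -e01
        exact (mul_eq_zero.1 this).resolve_left h3
      have a10 : A 1 0 = 0 := by
        have : (M 0 0 - M 1 1) * A 1 0 = 0 := by
          rw [h2] at e10
          linear_combination e10
        exact (mul_eq_zero.1 this).resolve_left h3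
      refine ⟨A 0 0 - (A 0 0 - A 1 1) / (M 0 0 - M 1 1) * M 0 0, (A 0 0 - A 1 1) / (M 0 0 - M 1 1), ?_⟩
      ext i j
      fin_cases i <;> fin_cases j
      · simp
      · simp [h1, a01]
      · simp [h2, a10]
      · simp
        field_simp
        ring
    · refine ⟨A 0 0 - A 1 0 / M 1 0 * M 0 0, A 1 0 / M 1 0, ?_⟩
      ext i j
      fin_cases i <;> fin_cases j
      · simp
      · simp [h1]
        have : A 0 1 * M 1 0 = 0 := by rw [h1] at e00; linear_combination e00
        exact (mul_eq_zero.1 this).resolve_right h2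
      · simp [h2]
      · simp
        field_simp
        linear_combination e10
  · refine ⟨A 0 0 - A 0 1 / M 0 1 * M 0 0, A 0 1 / M 0 1, ?_⟩
    ext i j
    fin_cases i <;> fin_cases j
    · simp
    · simp [h1]
    · simp
      field_simp
      linear_combination -e00
    · simp
      field_simp
      linear_combination -e01

theorem comm_of_comm {A B M : Matrix (Fin 2) (Fin 2) F} (hM : ¬ Sc M) (h : A * M = M * A) (h' : B * M = M * B) :
    A * B = B * A := by
  obtain ⟨a, b, rfl⟩ := exists_lin hM h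
  obtain ⟨c, d, rfl⟩ := exists_lin hM h'
  simp only [add_mul, mul_add, smul_mul_assoc, mul_smul_comm, one_mul, mul_one, smul_smul, smul_add]
  rw [mul_comm c a, mul_comm c b, mul_comm d a, mul_comm d b]
  abel

theorem trace_eq_zero {M : Matrix (Fin 2) (Fin 2) F} (hM : ¬ Sc M) (h : Sc (M * M)) : M 0 0 + M 1 1 = 0 := by
  rw [sc_iff] at h
  simp only [Matrix.mul_apply, Fin.sum_univ_two] at h
  obtain ⟨h1, h2, h3⟩ := h
  by_contra hne
  apply hM
  rw [sc_iff]
  refine ⟨?_, ?_, ?_⟩
  · have : (M 0 0 + M 1 1) * M 0 1 = 0 := by linear_combination h1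
    exact (mul_eq_zero.1 this).resolve_left hne
  · have : (M 0 0 + M 1 1) * M 1 0 = 0 := by linear_combination h2
    exact (mul_eq_zero.1 this).resolve_left hne
  · have : (M 0 0 + M 1 1) * (M 0 0 - M 1 1) = 0 := by linear_combination h3
    exact sub_eq_zero.1 ((mul_eq_zero.1 this).resolve_left hne)

theorem sq_of_trace {M : Matrix (Fin 2) (Fin 2) F} (h : M 0 0 + M 1 1 = 0) :
    M * M = (-M.det) • (1 : Matrix (Fin 2) (Fin 2) F) := by
  have h1 : M 1 1 = - M 0 0 := by linear_combination h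
  ext i j
  fin_cases i <;> fin_cases j <;> simp [Matrix.mul_apply, Fin.sum_univ_two, Matrix.det_fin_two, h1] <;> ring

theorem det_lin {M : Matrix (Fin 2) (Fin 2) F} (h : M 0 0 + M 1 1 = 0) (a b : F) :
    (a • (1 : Matrix (Fin 2) (Fin 2) F) + b • M).det = a ^ 2 + b ^ 2 * M.det := by
  have h1 : M 1 1 = - M 0 0 := by linear_combination h
  simp [Matrix.det_fin_two, h1]
  ring

/-- commuting up to a scalar -/
theorem sign_of_comm {A M : Matrix (Fin 2) (Fin 2) F} {c : F} (hA : A.det ≠ 0) (hM : M.det ≠ 0)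
    (h : A * M = c • (M * A)) : c = 1 ∨ c = -1 := by
  have h1 := congrArg Matrix.det h
  rw [Matrix.det_smul, Matrix.det_mul, Matrix.det_mul, Fintype.card_fin] at h1
  have h2 : (c - 1) * (c + 1) * (A.det * M.det) = 0 := by linear_combination -h1
  rcases mul_eq_zero.1 h2 with h3 | h3
  · rcases mul_eq_zero.1 h3 with h4 | h4
    · left; exact sub_eq_zero.1 h4
    · right; exact eq_neg_of_add_eq_zero_left h4
  · exact absurd h3 (mul_ne_zero hA hM)

theorem trace_of_anti {A M : Matrix (Fin 2) (Fin 2) F} (h2 : (2 : F) ≠ 0) (hA : A.det ≠ 0)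
    (h : A * M = -(M * A)) : M 0 0 + M 1 1 = 0 := by
  have h1 : M = -(A⁻¹ * (M * A)) := by
    calc M = A⁻¹ * (A * M) := by
          rw [← Matrix.mul_assoc, Matrix.nonsing_inv_mul A (isUnit_iff_ne_zero.2 hA), Matrix.one_mul]
      _ = -(A⁻¹ * (M * A)) := by rw [h, Matrix.mul_neg]
  have h3 : M.trace = - M.trace := by
    conv_lhs => rw [h1]
    rw [Matrix.trace_neg, ← Matrix.mul_assoc, Matrix.trace_mul_comm, ← Matrix.mul_assoc,
      Matrix.mul_nonsing_inv A (isUnit_iff_ne_zero.2 hA), Matrix.one_mul]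
  rw [Matrix.trace_fin_two] at h3
  have h4 : (2 : F) * (M 0 0 + M 1 1) = 0 := by linear_combination h3
  exact (mul_eq_zero.1 h4).resolve_left h2

/-- Schur -/
theorem sc_of_comm {A : Matrix (Fin 2) (Fin 2) F} (h1 : A * !![1, 1; 0, 1] = !![1, 1; 0, 1] * A)
    (h2 : A * !![1, 0; 1, 1] = !![1, 0; 1, 1] * A) : Sc A := by
  have a := congrFun (congrFun h1 0) 0
  have b := congrFun (congrFun h1 0) 1
  have c := congrFun (congrFun h2 0) 0
  simp [Matrix.mul_apply, Fin.sum_univ_two] at a b c
  rw [sc_iff]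
  refine ⟨c, a, ?_⟩
  linear_combination b

end field

end Cfsg.Agent.H333.SLF
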