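import Cfsg.Agent.H333.SLF.Mat
import Cfsg.Agent.Lib.AutSL2Out

/-!
# The action of `N(X)` on `X ≅ SL₂(5)` by matrices (helper333, piece SLFive of S3145)
-/

set_option autoImplicit false

namespace Cfsg.Agent.H333.SLF

open Matrix Subgroup Cfsg.Agent.Lib.SL2Mat Cfsg.Agent.Lib.AutSL2

abbrev F5 := ZMod 5

instance factFive : Fact (Nat.Prime 5) := ⟨by norm_num⟩

variable {G : Type*} [Group G] {X : Subgroup G} (e : ↥X ≃* SpecialLinearGroup (Fin 2) F5)

/-- `n` acts on `X` like conjugation by `M` -/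
def Rep (n : G) (M : Matrix (Fin 2) (Fin 2) F5) : Prop :=
  M.det ≠ 0 ∧ ∀ x : X, ∃ y : X, (y : G) = n * x * n⁻¹ ∧ (e y).1 * M = M * (e x).1

theorem exists_rep {n : G} (hn : n ∈ normalizer (X : Set G)) : ∃ M, Rep e n M := by
  let α : MulAut ↥X := X.normalizerMonoidHom ⟨n, hn⟩
  let β : MulAut (SpecialLinearGroup (Fin 2) F5) := (e.symm.trans α).trans e
  obtain ⟨g, σ, h⟩ := Cfsg.Agent.Lib.AutSL2Out.exists_eq β
  have hσ : σ = RingEquiv.refl _ := Subsingleton.elim _ _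
  refine ⟨g.1, ?_, ?_⟩
  · have := (Matrix.isUnit_iff_isUnit_det g.1).1 g.isUnit
    exact this.ne_zero
  · intro x
    refine ⟨α x, rfl, ?_⟩
    have h1 : β (e x) = e (α x) := by
      show e (α (e.symm (e x))) = _
      rw [e.symm_apply_apply]
    have h2 : fieldAut (RingEquiv.refl F5) = 1 := map_one fieldAut
    rw [← h1, h, hσ, h2, mul_one, conjGL_val]
    rw [Matrix.mul_assoc, inv_val_mul_val, Matrix.mul_one]

variable {e}

theorem Rep.mul {n m : G} {M L : Matrix (Fin 2) (Fin 2) F5} (hn : Rep e n M) (hm : Rep e m L) :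
    Rep e (n * m) (M * L) := by
  refine ⟨by rw [Matrix.det_mul]; exact mul_ne_zero hn.1 hm.1, fun x => ?_⟩
  obtain ⟨y, hy, hy2⟩ := hm.2 x
  obtain ⟨z, hz, hz2⟩ := hn.2 y
  refine ⟨z, by rw [hz, hy]; group, ?_⟩
  rw [← Matrix.mul_assoc, hz2, Matrix.mul_assoc, hy2, Matrix.mul_assoc]

theorem Rep.one : Rep e 1 1 := ⟨by simp, fun x => ⟨x, by simp, by simp⟩⟩

theorem Rep.smul {n : G} {M : Matrix (Fin 2) (Fin 2) F5} (h : Rep e n M) {c : F5} (hc : c ≠ 0) : Rep e n (c • M) := by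
  refine ⟨by rw [Matrix.det_smul]; exact mul_ne_zero (pow_ne_zero _ hc) h.1, fun x => ?_⟩
  obtain ⟨y, hy, hy2⟩ := h.2 x
  exact ⟨y, hy, by rw [Matrix.mul_smul, hy2, Matrix.smul_mul]⟩

/-- elements of `X` -/
theorem rep_of_mem (x : X) : Rep e (x : G) (e x).1 := by
  refine ⟨by rw [(e x).2]; exact one_ne_zero, fun y => ⟨x * y * x⁻¹, by simp, ?_⟩⟩
  have : (e (x * y * x⁻¹)) * e x = e x * e y := by
    rw [← map_mul, ← map_mul]; congr 1; group
  exact congrArg Subtype.val this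

/-- the matrix is unique up to a scalar -/
theorem Rep.unique {n : G} {M L : Matrix (Fin 2) (Fin 2) F5} (hM : Rep e n M) (hL : Rep e n L) :
    ∃ c : F5, c ≠ 0 ∧ L = c • M := by
  have key : ∀ s : SpecialLinearGroup (Fin 2) F5, (M⁻¹ * L) * s.1 = s.1 * (M⁻¹ * L) := by
    intro s
    obtain ⟨x, rfl⟩ := e.surjective s
    obtain ⟨y, hy, hy2⟩ := hM.2 x
    obtain ⟨z, hz, hz2⟩ := hL.2 x
    have hyz : y = z := Subtype.ext (hy.trans hz.symm)
    subst hyz
    have h1 : M⁻¹ * (e y).1 = (e x).1 * M⁻¹ := by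
      have hu := isUnit_iff_ne_zero.2 hM.1
      calc M⁻¹ * (e y).1 = M⁻¹ * ((e y).1 * M) * M⁻¹ := by
            rw [Matrix.mul_assoc, Matrix.mul_assoc, Matrix.mul_nonsing_inv M hu, Matrix.mul_one]
        _ = (e x).1 * M⁻¹ := by
            rw [hy2, ← Matrix.mul_assoc, Matrix.nonsing_inv_mul M hu, Matrix.one_mul]
    rw [Matrix.mul_assoc, ← hz2, ← Matrix.mul_assoc, h1, Matrix.mul_assoc]
  obtain ⟨c, hc⟩ := sc_of_comm (key ⟨!![1, 1; 0, 1], by simp⟩) (key ⟨!![1, 0; 1, 1], by simp⟩)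
  have hu := isUnit_iff_ne_zero.2 hM.1
  have h2 : L = c • M := by
    calc L = M * (M⁻¹ * L) := by rw [← Matrix.mul_assoc, Matrix.mul_nonsing_inv M hu, Matrix.one_mul]
      _ = c • M := by rw [hc, Matrix.mul_smul, Matrix.mul_one]
  refine ⟨c, ?_, h2⟩
  rintro rfl
  apply hL.1
  rw [h2]; simp

/-- kernel of the action -/
theorem Rep.cent_iff {n : G} {M : Matrix (Fin 2) (Fin 2) F5} (hM : Rep e n M) :
    n ∈ centralizer (X : Set G) ↔ Sc M := by
  constructor
  · intro h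
    have h1 : Rep e n 1 := by
      refine ⟨by simp, fun x => ⟨x, ?_, by simp⟩⟩
      rw [mem_centralizer_iff] at h
      rw [eq_mul_inv_iff_mul_eq]
      exact h x x.2
    obtain ⟨c, hc, h2⟩ := h1.unique hM
    exact ⟨c, h2⟩
  · rintro ⟨c, rfl⟩
    rw [mem_centralizer_iff]
    intro x hx
    obtain ⟨y, hy, hy2⟩ := hM.2 ⟨x, hx⟩
    have hc : c ≠ 0 := by
      rintro rfl
      apply hM.1; simp
    have h1 : (e y).1 = (e ⟨x, hx⟩).1 := by
      rw [Matrix.mul_smul, Matrix.mul_one, Matrix.smul_mul, Matrix.one_mul] at hy2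
      exact smul_right_injective _ hc hy2
    have h2 : y = ⟨x, hx⟩ := e.injective (Subtype.ext h1)
    rw [h2] at hy
    exact eq_mul_inv_iff_mul_eq.1 hy

/-- an element of `X` commutes with `n` iff the matrices commute -/
theorem Rep.comm_iff {n : G} {M : Matrix (Fin 2) (Fin 2) F5} (hM : Rep e n M) (x : X) :
    n * x = x * n ↔ M * (e x).1 = (e x).1 * M := by
  obtain ⟨y, hy, hy2⟩ := hM.2 x
  constructor
  · intro h
    have : y = x := by
      apply Subtype.ext
      rw [hy, h]; group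
    rw [← hy2, this]
  · intro h
    have h1 : (e y).1 = (e x).1 := by
      have hu := isUnit_iff_ne_zero.2 hM.1
      have h2 : (e y).1 * M = (e x).1 * M := by rw [hy2, h]
      calc (e y).1 = (e y).1 * M * M⁻¹ := by rw [Matrix.mul_assoc, Matrix.mul_nonsing_inv M hu, Matrix.mul_one]
        _ = (e x).1 * M * M⁻¹ := by rw [h2]
        _ = (e x).1 := by rw [Matrix.mul_assoc, Matrix.mul_nonsing_inv M hu, Matrix.mul_one]
    have h2 : y = x := e.injective (Subtype.ext h1)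
    rw [h2] at hy
    exact (eq_mul_inv_iff_mul_eq.1 hy).symm

/-- an element of `N(X)` centralizing two non-commuting elements of `X` centralizes `X` -/
theorem cent_of_two (e : ↥X ≃* SpecialLinearGroup (Fin 2) F5) {n : G} (hn : n ∈ normalizer (X : Set G)) (x y : X) (hx : n * x = x * n) (hy : n * y = y * n)
    (hxy : x * y ≠ y * x) : n ∈ centralizer (X : Set G) := by
  obtain ⟨M, hM⟩ := exists_rep e hn
  rw [hM.cent_iff]
  by_contra hne
  apply hxy
  have h1 := comm_of_comm hne ((hM.comm_iff x).1 hx).symm ((hM.comm_iff y).1 hy).symm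
  apply e.injective
  rw [map_mul, map_mul]
  exact Subtype.ext h1

end Cfsg.Agent.H333.SLF
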